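import Groth.Agent.Lib.RelProjBasics.Basic
import Mathlib.AlgebraicGeometry.Gluing

/-!
# Gluing morphisms out of a relative Proj
-/

set_option autoImplicit false
universe u

open CategoryTheory Limits AlgebraicGeometry Opposite TopologicalSpace

namespace Groth.Agent.Lib.RelProjBasics.Glue

variable {Y P Z : Scheme.{u}} (p : P ⟶ Y)

lemma iSup_preimage : ⨆ U : Y.affineOpens, p ⁻¹ᵁ U.1 = ⊤ := by
  refine top_le_iff.mp fun x _ ↦ ?_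
  obtain ⟨U, hU, hx, -⟩ := exists_isAffineOpen_mem_and_subset (U := ⊤) (x := p x) trivial
  exact Opens.mem_iSup.mpr ⟨⟨U, hU⟩, hx⟩

lemma hom_ext {e e' : P ⟶ Z}
    (h : ∀ (U : Y.Opens) (_ : IsAffineOpen U), (p ⁻¹ᵁ U).ι ≫ e = (p ⁻¹ᵁ U).ι ≫ e') : e = e' := by
  refine Scheme.hom_ext_of_forall _ _ fun x ↦ ?_
  obtain ⟨U, hU, hx, -⟩ := exists_isAffineOpen_mem_and_subset (U := ⊤) (x := p x) trivial
  exact ⟨p ⁻¹ᵁ U, hx, h U hU⟩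

variable (φ : ∀ (U : Y.Opens) (_ : IsAffineOpen U), ((p ⁻¹ᵁ U : P.Opens) : Scheme.{u}) ⟶ Z)

lemma congr_val {W W' : Y.Opens} (hW : IsAffineOpen W) (hW' : IsAffineOpen W') (e : W = W') :
    P.homOfLE (p.preimage_mono e.le) ≫ φ W' hW' = φ W hW := by
  subst e
  simp

/-- Morphisms on the preimages of the affine opens, compatible with restriction to basic opens,
glue uniquely. -/
theorem existsUnique_glue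
    (hres : ∀ (U : Y.Opens) (hU : IsAffineOpen U) (r : Γ(Y, U)),
      P.homOfLE (p.preimage_mono (Y.basicOpen_le r)) ≫ φ U hU =
        φ (Y.basicOpen r) (hU.basicOpen r)) :
    ∃! e : P ⟶ Z, ∀ (U : Y.Opens) (hU : IsAffineOpen U), (p ⁻¹ᵁ U).ι ≫ e = φ U hU := by
  have hcompat (U V : Y.affineOpens) :
      P.homOfLE (inf_le_left : p ⁻¹ᵁ U.1 ⊓ p ⁻¹ᵁ V.1 ≤ _) ≫ φ U.1 U.2 =
        P.homOfLE (inf_le_right : p ⁻¹ᵁ U.1 ⊓ p ⁻¹ᵁ V.1 ≤ _) ≫ φ V.1 V.2 := by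
    refine Scheme.hom_ext_of_forall _ _ fun x ↦ ?_
    obtain ⟨r, s, e, hx⟩ := exists_basicOpen_le_affine_inter U.2 V.2 (p x.1) x.2
    refine ⟨(p ⁻¹ᵁ U.1 ⊓ p ⁻¹ᵁ V.1).ι ⁻¹ᵁ (p ⁻¹ᵁ Y.basicOpen r), hx, ?_⟩
    have hle : p ⁻¹ᵁ Y.basicOpen r ≤ p ⁻¹ᵁ U.1 ⊓ p ⁻¹ᵁ V.1 :=
      le_inf (p.preimage_mono (Y.basicOpen_le r)) (p.preimage_mono (e ▸ Y.basicOpen_le s))
    let j : (((p ⁻¹ᵁ U.1 ⊓ p ⁻¹ᵁ V.1).ι ⁻¹ᵁ (p ⁻¹ᵁ Y.basicOpen r) : _) : Scheme.{u}) ⟶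
        (p ⁻¹ᵁ Y.basicOpen r : P.Opens) := (p ⁻¹ᵁ U.1 ⊓ p ⁻¹ᵁ V.1).ι ∣_ _
    have hj : ((p ⁻¹ᵁ U.1 ⊓ p ⁻¹ᵁ V.1).ι ⁻¹ᵁ (p ⁻¹ᵁ Y.basicOpen r)).ι = j ≫ P.homOfLE hle := by
      rw [← cancel_mono (p ⁻¹ᵁ U.1 ⊓ p ⁻¹ᵁ V.1).ι]
      simp [j]
    rw [hj, Category.assoc, Category.assoc, Scheme.homOfLE_homOfLE_assoc,
      Scheme.homOfLE_homOfLE_assoc, hres U.1 U.2 r]
    rw [← congr_val p φ (U.2.basicOpen r) (V.2.basicOpen s) e, ← hres V.1 V.2 s,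
      Scheme.homOfLE_homOfLE_assoc]
  let 𝒰 := P.openCoverOfIsOpenCover _ (iSup_preimage p)
  let e : P ⟶ Z := Scheme.Cover.glueMorphisms 𝒰 (fun U ↦ φ U.1 U.2) fun U V ↦ by
    refine (cancel_epi (isPullback_opens_inf (p ⁻¹ᵁ U.1) (p ⁻¹ᵁ V.1)).isoPullback.hom).mp ?_
    erw [IsPullback.isoPullback_hom_fst_assoc, IsPullback.isoPullback_hom_snd_assoc]
    exact hcompat U V
  refine ⟨e, fun U hU ↦ Scheme.Cover.ι_glueMorphisms 𝒰 _ _ (⟨U, hU⟩ : Y.affineOpens),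
    fun e' he' ↦ hom_ext p fun U hU ↦ ?_⟩
  exact (he' U hU).trans
    (Scheme.Cover.ι_glueMorphisms 𝒰 (fun U ↦ φ U.1 U.2) _ (⟨U, hU⟩ : Y.affineOpens)).symm

end Groth.Agent.Lib.RelProjBasics.Glue
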