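import Groth.Prelude.Def_RelProj
import Mathlib.AlgebraicGeometry.ProjectiveSpectrum.Proper

/-!
# Basic properties of relative Proj's read off from the charts
-/

set_option autoImplicit false
universe u

open CategoryTheory Limits AlgebraicGeometry Opposite TopologicalSpace HomogeneousLocalization

namespace Groth.Agent.Lib.RelProjBasics.Basic

noncomputable section

variable {Y P : Scheme.{u}} (𝒮 : RelProj.QCGrAlg Y) {p : P ⟶ Y}
  {chart : ∀ (U : Y.Opens) (hU : IsAffineOpen U), ((p ⁻¹ᵁ U : P.Opens) : Scheme.{u}) ≅ Proj (𝒮.deg U hU)}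

/-- The structure morphism of the chart over `U`, to `Spec Γ(U)`. -/
def chartStr (U : Y.Opens) (hU : IsAffineOpen U) : Proj (𝒮.deg U hU) ⟶ Spec Γ(Y, U) :=
  Proj.toSpecZero (𝒮.deg U hU) ≫ Spec.map (𝒮.strZero U hU)

variable {𝒮}

lemma morphismRestrict_eq (hP : RelProj.IsRelProj 𝒮 p chart) (U : Y.Opens) (hU : IsAffineOpen U) :
    p ∣_ U = (chart U hU).hom ≫ chartStr 𝒮 U hU ≫ hU.isoSpec.inv := by
  rw [← cancel_mono U.ι, morphismRestrict_ι, ← hP.chart_over U hU, chartStr]
  simp only [Category.assoc, IsAffineOpen.isoSpec_inv_ι]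

/-- A property local at the target holds for `p` once it holds for every chart. -/
theorem of_chart (hP : RelProj.IsRelProj 𝒮 p chart) (Q : MorphismProperty Scheme.{u})
    [IsZariskiLocalAtTarget Q]
    (h : ∀ (U : Y.Opens) (hU : IsAffineOpen U), Q (chartStr 𝒮 U hU)) : Q p := by
  rw [IsZariskiLocalAtTarget.iff_of_iSup_eq_top (P := Q) _ (iSup_affineOpens_eq_top Y)]
  intro U
  rw [morphismRestrict_eq hP U.1 U.2, MorphismProperty.cancel_left_of_respectsIso Q,
    MorphismProperty.cancel_right_of_respectsIso Q]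
  exact h U.1 U.2

theorem isSeparated (hP : RelProj.IsRelProj 𝒮 p chart) : IsSeparated p :=
  of_chart hP @IsSeparated fun U hU ↦ by
    unfold chartStr
    infer_instance

section FiniteType

variable (U : Y.Opens) (hU : IsAffineOpen U)

/-- `Γ(U) → 𝒮(U)_0 → 𝒮(U)` is the structure map. -/
lemma algebraMap_comp_strZero :
    (algebraMap (𝒮.deg U hU 0) (𝒮.presheaf.obj (op U))).comp (𝒮.strZero U hU).hom =
      (𝒮.str.app (op U)).hom :=
  RingHom.ext fun _ ↦ rfl

lemma finiteType_strZero (h : (𝒮.str.app (op U)).hom.FiniteType) :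
    (𝒮.strZero U hU).hom.FiniteType := by
  classical
  let π : 𝒮.presheaf.obj (op U) →+* (𝒮.deg U hU 0) :=
    { toFun := fun a ↦ DirectSum.decompose (𝒮.deg U hU) a 0
      map_one' := by rw [DirectSum.decompose_one]; rfl
      map_mul' := fun a b ↦ Subtype.ext <| by
        exact map_mul (GradedRing.projZeroRingHom (𝒮.deg U hU)) a b
      map_zero' := by rw [DirectSum.decompose_zero]; rfl
      map_add' := fun a b ↦ by rw [DirectSum.decompose_add]; rfl }
  have hπ : Function.Surjective π := fun a ↦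
    ⟨a.1, Subtype.ext (DirectSum.decompose_of_mem_same _ a.2)⟩
  have : (𝒮.strZero U hU).hom = π.comp (𝒮.str.app (op U)).hom :=
    RingHom.ext fun r ↦ Subtype.ext
      (DirectSum.decompose_of_mem_same _ (𝒮.str_mem U hU r)).symm
  rw [this]
  exact h.comp_surjective hπ

lemma finiteType_algebra (h : (𝒮.str.app (op U)).hom.FiniteType) :
    Algebra.FiniteType (𝒮.deg U hU 0) (𝒮.presheaf.obj (op U)) := by
  rw [← RingHom.finiteType_algebraMap]
  exact RingHom.FiniteType.of_comp_finiteType (f := (𝒮.strZero U hU).hom)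
    (by rw [algebraMap_comp_strZero]; exact h)

end FiniteType

theorem finiteType (hP : RelProj.IsRelProj 𝒮 p chart)
    (hft : ∀ (U : Y.Opens) (_ : IsAffineOpen U), (𝒮.str.app (op U)).hom.FiniteType) :
    LocallyOfFiniteType p ∧ QuasiCompact p := by
  refine ⟨of_chart hP @LocallyOfFiniteType fun U hU ↦ ?_, of_chart hP @QuasiCompact fun U hU ↦ ?_⟩
  · haveI := finiteType_algebra U hU (hft U hU)
    haveI : LocallyOfFiniteType (Spec.map (𝒮.strZero U hU)) := by
      rw [HasRingHomProperty.Spec_iff (P := @LocallyOfFiniteType)]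
      exact finiteType_strZero U hU (hft U hU)
    unfold chartStr
    infer_instance
  · haveI := finiteType_algebra U hU (hft U hU)
    unfold chartStr
    infer_instance

section GenDegOne

variable (hgen : 𝒮.IsGenDegOne) (hft : 𝒮.IsFTDeg 1) (U : Y.Opens) (hU : IsAffineOpen U)

include hgen in
lemma adjoin_eq_top {T : Finset (𝒮.presheaf.obj (op U))}
    (hspan : ∀ x ∈ 𝒮.deg U hU 1, ∃ c : (𝒮.presheaf.obj (op U)) → Γ(Y, U),
      x = ∑ t ∈ T, (𝒮.str.app (op U)).hom (c t) * t) :
    Algebra.adjoin (𝒮.deg U hU 0) (↑T : Set (𝒮.presheaf.obj (op U))) = ⊤ := by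
  refine top_le_iff.mp fun x _ ↦ ?_
  have hx : x ∈ Subring.closure
      ((𝒮.deg U hU 0 : Set (𝒮.presheaf.obj (op U))) ∪ (𝒮.deg U hU 1 : Set _)) := by
    rw [hgen U hU]; trivial
  refine (Subring.closure_le (t := (Algebra.adjoin (𝒮.deg U hU 0)
    (↑T : Set (𝒮.presheaf.obj (op U)))).toSubring)).mpr ?_ hx
  rintro a (ha | ha)
  · exact Subalgebra.algebraMap_mem _ (⟨a, ha⟩ : 𝒮.deg U hU 0)
  · obtain ⟨c, rfl⟩ := hspan a ha
    exact Subalgebra.sum_mem _ fun t ht ↦ Subalgebra.mul_mem _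
      (Subalgebra.algebraMap_mem _ (⟨_, 𝒮.str_mem U hU (c t)⟩ : 𝒮.deg U hU 0))
      (Algebra.subset_adjoin ht)

include hgen hft in
lemma finiteType_awayι {t : 𝒮.presheaf.obj (op U)} (ht : t ∈ 𝒮.deg U hU 1) :
    ((fromZeroRingHom (𝒮.deg U hU) (Submonoid.powers t)).comp (𝒮.strZero U hU).hom).FiniteType := by
  classical
  obtain ⟨T, hT, hspan⟩ := hft U hU
  set φ := (fromZeroRingHom (𝒮.deg U hU) (Submonoid.powers t)).comp (𝒮.strZero U hU).hom with hφ
  algebraize [φ]
  let g : T → Away (𝒮.deg U hU) t := fun s ↦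
    Away.mk (𝒮.deg U hU) ht 1 s.1 (by rw [one_smul]; exact hT s.2)
  refine ⟨⟨Finset.univ.image g, ?_⟩⟩
  rw [Finset.coe_image, Finset.coe_univ, Set.image_univ]
  have hzero (a : 𝒮.deg U hU 0) :
      fromZeroRingHom (𝒮.deg U hU) (Submonoid.powers t) a ∈ Algebra.adjoin Γ(Y, U) (Set.range g) := by
    obtain ⟨c, hc⟩ := hspan (a.1 * t) (by simpa using SetLike.mul_mem_graded a.2 ht)
    have : fromZeroRingHom (𝒮.deg U hU) (Submonoid.powers t) a =
        ∑ s : T, φ (c s.1) * g s := by
      apply val_injective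
      rw [← HomogeneousLocalization.algebraMap_apply (𝒜 := 𝒮.deg U hU), ← HomogeneousLocalization.algebraMap_apply (𝒜 := 𝒮.deg U hU), map_sum]
      simp only [map_mul, HomogeneousLocalization.algebraMap_apply, hφ, RingHom.comp_apply, g, Away.val_mk, pow_one,
        fromZeroRingHom, RingHom.coe_mk, MonoidHom.coe_mk, OneHom.coe_mk, val_mk,
        Localization.mk_mul, one_mul]
      trans Localization.mk ((a.1 : 𝒮.presheaf.obj (op U)) * t)
        (⟨t, Submonoid.mem_powers t⟩ : Submonoid.powers t)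
      · rw [Localization.mk_eq_mk_iff, Localization.r_iff_exists]
        exact ⟨1, by simp [mul_comm]⟩
      · rw [hc, ← Finset.sum_attach T, Localization.mk_sum, ← Finset.univ_eq_attach]
        refine Finset.sum_congr rfl fun s _ ↦ ?_
        congr 1
        exact Subtype.ext (one_mul t).symm
    rw [this]
    exact Subalgebra.sum_mem _ fun s _ ↦
      Subalgebra.mul_mem _ (Subalgebra.algebraMap_mem _ _) (Algebra.subset_adjoin ⟨s, rfl⟩)
  refine top_le_iff.mp fun x hxtop ↦ ?_
  clear hxtop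
  have hx := (Away.adjoin_mk_prod_pow_eq_top (𝒜 := 𝒮.deg U hU) ht T Subtype.val
    (by rw [Subtype.range_coe_subtype]; exact adjoin_eq_top hgen U hU hspan)
    (fun _ ↦ 1) (fun s ↦ hT s.2)).ge (Algebra.mem_top (x := x))
  induction hx using Algebra.adjoin_induction with
  | mem y hy =>
    obtain ⟨a, ai, hai, -, rfl⟩ := hy
    have : Away.mk (𝒮.deg U hU) ht a (∏ i : T, (i.1 : 𝒮.presheaf.obj (op U)) ^ ai i)
        (hai ▸ SetLike.prod_pow_mem_graded _ _ _ _ fun i _ ↦ hT i.2) = ∏ i, g i ^ ai i := by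
      apply val_injective
      rw [← HomogeneousLocalization.algebraMap_apply (𝒜 := 𝒮.deg U hU), ← HomogeneousLocalization.algebraMap_apply (𝒜 := 𝒮.deg U hU), map_prod]
      simp only [map_pow, HomogeneousLocalization.algebraMap_apply, g, Away.val_mk, Localization.mk_pow, pow_one,
        Localization.mk_prod]
      congr 1
      refine Subtype.ext ?_
      simp only [SubmonoidClass.coe_finsetProd, SubmonoidClass.coe_pow, Finset.prod_pow_eq_pow_sum]
      simp only [smul_eq_mul, mul_one] at hai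
      rw [hai]
    rw [this]
    exact Subalgebra.prod_mem _ fun i _ ↦ Subalgebra.pow_mem _
      (Algebra.subset_adjoin (Set.mem_range_self i)) _
  | algebraMap a => exact hzero a
  | add _ _ _ _ h₁ h₂ => exact Subalgebra.add_mem _ h₁ h₂
  | mul _ _ _ _ h₁ h₂ => exact Subalgebra.mul_mem _ h₁ h₂

include hgen hft in
lemma locallyOfFiniteType_chartStr : LocallyOfFiniteType (chartStr 𝒮 U hU) := by
  obtain ⟨T, hT, hspan⟩ := hft U hU
  rw [IsZariskiLocalAtSource.iff_of_iSup_eq_top (P := @LocallyOfFiniteType) _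
    (Proj.iSup_basicOpen_eq_top' (𝒮.deg U hU) (ι := T) (↑) (fun i ↦ ⟨_, hT i.2⟩)
      (by rw [Subtype.range_coe_subtype]; exact adjoin_eq_top hgen U hU hspan))]
  intro i
  rw [← MorphismProperty.cancel_left_of_respectsIso (P := @LocallyOfFiniteType)
    (Proj.basicOpenIsoSpec (𝒮.deg U hU) (i : 𝒮.presheaf.obj (op U)) (hT i.2) one_pos).inv,
    chartStr, ← Category.assoc, ← Category.assoc, ← Proj.awayι, Proj.awayι_toSpecZero,
    ← Spec.map_comp, HasRingHomProperty.Spec_iff (P := @LocallyOfFiniteType)]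
  exact finiteType_awayι hgen hft U hU (hT i.2)

theorem finiteType_of_isGenDegOne (hP : RelProj.IsRelProj 𝒮 p chart)
    (hgen : 𝒮.IsGenDegOne) (hft : 𝒮.IsFTDeg 1) :
    LocallyOfFiniteType p ∧ QuasiCompact p := by
  refine ⟨of_chart hP @LocallyOfFiniteType fun U hU ↦ locallyOfFiniteType_chartStr hgen hft U hU,
    of_chart hP @QuasiCompact fun U hU ↦ ?_⟩
  obtain ⟨T, hT, hspan⟩ := hft U hU
  haveI : Algebra.FiniteType (𝒮.deg U hU 0) (𝒮.presheaf.obj (op U)) :=
    ⟨⟨T, adjoin_eq_top hgen U hU hspan⟩⟩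
  unfold chartStr
  infer_instance

end GenDegOne

end

end Groth.Agent.Lib.RelProjBasics.Basic
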